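import Groth.Agent.Lib.SheafCoh.Acyclic
import Mathlib.Algebra.Homology.ShortComplex.Ab

/-! # Sections of a complex of acyclic sheaves with acyclic cohomology -/

set_option autoImplicit false

universe u

open CategoryTheory CategoryTheory.Limits Opposite Abelian

namespace GrothLib.AcycCx25

open GrothLib.SheafCoh

variable {C : Type u} [SmallCategory C] {J : GrothendieckTopology C} (U : C)

/-- Acyclicity at `U`. -/
def Acy (F : Sheaf J AddCommGrpCat.{u}) : Prop := ∀ p : ℕ, Subsingleton (CohSite.HU F (p + 1) U)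

/-- Sections at `U`. -/
noncomputable abbrev ev : Sheaf J AddCommGrpCat.{u} ⥤ AddCommGrpCat.{u} :=
  sheafToPresheaf J AddCommGrpCat.{u} ⋙ (evaluation _ _).obj (op U)

variable {U}

theorem Acy.ext {F : Sheaf J AddCommGrpCat.{u}} (h : Acy U F) (p : ℕ) :
    Subsingleton (Ext (freeY J U) F (p + 1)) :=
  @Equiv.subsingleton _ _ (HUext F (p + 1) U).symm.toEquiv (h p)

theorem acy_of_ext {F : Sheaf J AddCommGrpCat.{u}} (h : ∀ p, Subsingleton (Ext (freeY J U) F (p + 1))) :
    Acy U F := fun p => @Equiv.subsingleton _ _ (HUext F (p + 1) U).toEquiv (h p)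

theorem acy_of_isZero {F : Sheaf J AddCommGrpCat.{u}} (h : IsZero F) : Acy U F :=
  acy_of_ext fun p => subsingleton_of_forall_eq 0 fun x => by
    rw [← Ext.comp_mk₀_id x, h.eq_of_src (𝟙 F) 0, Ext.mk₀_zero, Ext.comp_zero]

theorem acy_mid {S : ShortComplex (Sheaf J AddCommGrpCat.{u})} (hS : S.ShortExact) (h₁ : Acy U S.X₁)
    (h₃ : Acy U S.X₃) : Acy U S.X₂ :=
  acy_of_ext fun p => subsingleton_of_forall_eq 0 fun x => by
    have := h₁.ext p
    have := h₃.ext p
    obtain ⟨y, rfl⟩ := Ext.covariant_sequence_exact₂ _ hS x (Subsingleton.elim _ _)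
    rw [Subsingleton.elim y 0, Ext.zero_comp]

theorem acy_right {S : ShortComplex (Sheaf J AddCommGrpCat.{u})} (hS : S.ShortExact) (h₁ : Acy U S.X₁)
    (h₂ : Acy U S.X₂) : Acy U S.X₃ :=
  acy_of_ext fun p => subsingleton_of_forall_eq 0 fun x => by
    have := h₁.ext (p + 1)
    have := h₂.ext p
    obtain ⟨y, rfl⟩ := Ext.covariant_sequence_exact₃ _ hS x rfl (Subsingleton.elim _ _)
    rw [Subsingleton.elim y 0, Ext.zero_comp]

theorem surjective_of_acy {S : ShortComplex (Sheaf J AddCommGrpCat.{u})} (hS : S.ShortExact) (h₁ : Acy U S.X₁) :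
    Function.Surjective (S.g.hom.app (op U)) := fun s => by
  obtain ⟨φ, rfl⟩ := (homFreeY S.X₃ U).surjective s
  obtain ⟨φ', hφ⟩ := surjective_of_subsingleton hS (h₁.ext 0) φ
  refine ⟨homFreeY S.X₂ U φ', ?_⟩
  rw [← hφ]
  exact (homFreeY_comp U φ' S.g).symm

theorem exact_left {S : ShortComplex (Sheaf J AddCommGrpCat.{u})} (hS : S.ShortExact)
    (a : S.X₂.obj.obj (op U)) (ha : S.g.hom.app (op U) a = 0) : ∃ c, S.f.hom.app (op U) c = a := by
  have := hS.mono_f
  have h : (S.map (ev U)).Exact := hS.exact.map_of_mono_of_preservesKernel (ev U) inferInstance inferInstance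
  exact (ShortComplex.ab_exact_iff _).1 h a ha

variable (K : CochainComplex (Sheaf J AddCommGrpCat.{u}) ℕ)

/-- `Z → K → image of d`. -/
noncomputable abbrev sesZ (n : ℕ) : ShortComplex (Sheaf J AddCommGrpCat.{u}) :=
  ShortComplex.mk (K.iCycles n) (Abelian.factorThruImage (K.d n (n + 1)))
    (by rw [← cancel_mono (Abelian.image.ι (K.d n (n + 1))), Category.assoc, Abelian.image.fac, zero_comp,
      K.iCycles_d])

theorem sesZ_shortExact (n : ℕ) : (sesZ K n).ShortExact := by
  refine ShortComplex.ShortExact.mk' ?_ (by dsimp; infer_instance) (by dsimp; infer_instance)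
  have h : (ShortComplex.mk (K.iCycles n) (K.d n (n + 1)) (K.iCycles_d n (n + 1))).Exact :=
    ShortComplex.exact_of_f_is_kernel _ (K.cyclesIsKernel n (n + 1) (by simp))
  rw [ShortComplex.exact_iff_exact_up_to_refinements] at h ⊢
  intro T x hx
  refine h x ?_
  change x ≫ K.d n (n + 1) = 0
  rw [← Abelian.image.fac (K.d n (n + 1)), ← Category.assoc, hx, zero_comp]

/-- The map `image of d → Z`. -/
noncomputable def imToZ (n : ℕ) : Abelian.image (K.d n (n + 1)) ⟶ K.cycles (n + 1) :=
  K.liftCycles (Abelian.image.ι _) (n + 1 + 1) (by simp) (by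
    rw [← cancel_epi (Abelian.factorThruImage (K.d n (n + 1))), ← Category.assoc, Abelian.image.fac, K.d_comp_d,
      comp_zero])

theorem fac_imToZ (n : ℕ) : Abelian.factorThruImage (K.d n (n + 1)) ≫ imToZ K n = K.toCycles n (n + 1) := by
  rw [← cancel_mono (K.iCycles (n + 1)), Category.assoc, imToZ, HomologicalComplex.liftCycles_i, Abelian.image.fac,
    HomologicalComplex.toCycles_i]

/-- `image of d → Z → H`. -/
noncomputable abbrev sesH (n : ℕ) : ShortComplex (Sheaf J AddCommGrpCat.{u}) :=
  ShortComplex.mk (imToZ K n) (K.homologyπ (n + 1))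
    (by rw [← cancel_epi (Abelian.factorThruImage (K.d n (n + 1))), ← Category.assoc, fac_imToZ,
      K.toCycles_comp_homologyπ, comp_zero])

theorem sesH_shortExact (n : ℕ) : (sesH K n).ShortExact := by
  have hm : Mono (imToZ K n) := by
    have : Mono (imToZ K n ≫ K.iCycles (n + 1)) := by
      rw [imToZ, HomologicalComplex.liftCycles_i]; infer_instance
    exact mono_of_mono _ (K.iCycles (n + 1))
  refine ShortComplex.ShortExact.mk' ?_ hm (by dsimp; infer_instance)
  have h : (ShortComplex.mk (K.toCycles n (n + 1)) (K.homologyπ (n + 1)) (K.toCycles_comp_homologyπ _ _)).Exact :=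
    ShortComplex.exact_of_g_is_cokernel _ (K.homologyIsCokernel n (n + 1) (by simp))
  rw [ShortComplex.exact_iff_exact_up_to_refinements] at h ⊢
  intro T x hx
  obtain ⟨T', π, hπ, y, hy⟩ := h x hx
  refine ⟨T', π, hπ, y ≫ Abelian.factorThruImage (K.d n (n + 1)), ?_⟩
  rw [hy, Category.assoc]
  exact congrArg (y ≫ ·) (fac_imToZ K n).symm

variable (hK : ∀ n, Acy U (K.X n)) (hH : ∀ n, Acy U (K.homology n))

include hK hH in
theorem acy_cycles : ∀ n, Acy U (K.cycles n) := by
  intro n
  induction n with
  | zero =>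
    refine acy_of_ext fun p => ?_
    have := (hH 0).ext p
    refine subsingleton_of_forall_eq 0 fun x => ?_
    have h : (x.comp (Ext.mk₀ (K.homologyπ 0)) (add_zero _)).comp (Ext.mk₀ (inv (K.homologyπ 0))) (add_zero _) = x := by
      rw [Ext.comp_assoc_of_second_deg_zero, Ext.mk₀_comp_mk₀, IsIso.hom_inv_id, Ext.comp_mk₀_id]
    rw [← h, Subsingleton.elim (x.comp (Ext.mk₀ (K.homologyπ 0)) (add_zero _)) 0, Ext.zero_comp]
  | succ n ih =>
    exact acy_mid (sesH_shortExact K n) (acy_right (sesZ_shortExact K n) ih (hK n)) (hH (n + 1))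

include hK hH in
theorem acy_image (n : ℕ) : Acy U (Abelian.image (K.d n (n + 1))) :=
  acy_right (sesZ_shortExact K n) (acy_cycles K hK hH n) (hK n)

/-- Sections of the complex. -/
noncomputable abbrev secCx (U : C) (K : CochainComplex (Sheaf J AddCommGrpCat.{u}) ℕ) : CochainComplex AddCommGrpCat.{u} ℕ :=
  ((ev U).mapHomologicalComplex (ComplexShape.up ℕ)).obj K

/-- Sections of cycles to cycles of sections. -/
noncomputable def cycMap (U : C) (n : ℕ) : (ev U).obj (K.cycles n) ⟶ (secCx U K).cycles n :=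
  (secCx U K).liftCycles ((ev U).map (K.iCycles n)) (n + 1) (by simp)
    ((((ev U).map_comp _ _).symm).trans ((congrArg (ev U).map (K.iCycles_d n (n + 1))).trans (Functor.map_zero (ev U) _ _)))

theorem isIso_cycMap (n : ℕ) : IsIso (cycMap (J := J) K U n) := by
  have : (ev (J := J) U).PreservesMonomorphisms := preservesMonomorphisms_of_preservesLimitsOfShape _
  have hm : Mono ((ev U).map (K.iCycles n)) := (ev U).map_mono _
  have : Mono (cycMap (J := J) K U n) := by
    have : Mono (cycMap (J := J) K U n ≫ (secCx U K).iCycles n) := by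
      rw [cycMap, HomologicalComplex.liftCycles_i]; exact hm
    exact mono_of_mono _ ((secCx U K).iCycles n)
  rw [ConcreteCategory.isIso_iff_bijective]
  refine ⟨(AddCommGrpCat.mono_iff_injective _).1 inferInstance, fun z => ?_⟩
  obtain ⟨c, hc⟩ := exact_left (U := U) (sesZ_shortExact K n) ((secCx U K).iCycles n z) (by
    apply (AddCommGrpCat.mono_iff_injective ((ev U).map (Abelian.image.ι (K.d n (n + 1))))).1 inferInstance
    refine Eq.trans ?_ (map_zero _).symm
    refine ((ConcreteCategory.congr_hom ((ev U).map_comp (Abelian.factorThruImage (K.d n (n + 1)))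
      (Abelian.image.ι (K.d n (n + 1)))) _).symm).trans ?_
    refine (ConcreteCategory.congr_hom (congrArg (ev U).map (Abelian.image.fac (K.d n (n + 1)))) _).trans ?_
    exact ConcreteCategory.congr_hom ((secCx U K).iCycles_d n (n + 1)) z)
  refine ⟨c, (AddCommGrpCat.mono_iff_injective ((secCx U K).iCycles n)).1 inferInstance ?_⟩
  exact (ConcreteCategory.congr_hom ((secCx U K).liftCycles_i _ _ _ _) c).trans hc

include hK hH in
theorem nonempty_homology_iso (n : ℕ) : Nonempty ((secCx U K).homology n ≅ (ev U).obj (K.homology n)) := by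
  have := isIso_cycMap K (U := U) n
  let ψ : (secCx U K).cycles n ⟶ (ev U).obj (K.homology n) := inv (cycMap K U n) ≫ (ev U).map (K.homologyπ n)
  cases n with
  | zero =>
    have : IsIso ((secCx U K).homologyπ 0) := inferInstance
    exact ⟨(asIso ((secCx U K).homologyπ 0)).symm ≪≫ asIso ψ⟩
  | succ m =>
    have hB := acy_image K hK hH m
    have hs1 : Function.Surjective ((ev U).map (Abelian.factorThruImage (K.d m (m + 1)))) :=
      surjective_of_acy (sesZ_shortExact K m) (acy_cycles K hK hH m)
    have hs2 : Function.Surjective ((ev U).map (K.homologyπ (m + 1))) := surjective_of_acy (sesH_shortExact K m) hB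
    have htc : (secCx U K).toCycles m (m + 1) = (ev U).map (K.toCycles m (m + 1)) ≫ cycMap K U (m + 1) := by
      rw [← cancel_mono ((secCx U K).iCycles (m + 1))]
      refine ((secCx U K).toCycles_i m (m + 1)).trans ?_
      refine Eq.trans ?_ (Category.assoc _ _ _).symm
      refine Eq.trans ?_ (congrArg ((ev U).map (K.toCycles m (m + 1)) ≫ ·) ((secCx U K).liftCycles_i _ _ _ _)).symm
      exact (congrArg (ev U).map (K.toCycles_i m (m + 1))).symm.trans ((ev U).map_comp _ _)
    have w : (secCx U K).toCycles m (m + 1) ≫ ψ = 0 := by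
      refine (congrArg (· ≫ ψ) htc).trans ?_
      refine (Category.assoc _ _ _).trans ?_
      refine (congrArg ((ev U).map (K.toCycles m (m + 1)) ≫ ·) (IsIso.hom_inv_id_assoc (cycMap K U (m + 1)) _)).trans ?_
      exact ((ev U).map_comp _ _).symm.trans
        ((congrArg (ev U).map (K.toCycles_comp_homologyπ m (m + 1))).trans (Functor.map_zero _ _ _))
    have hψ : Function.Surjective ψ :=
      hs2.comp (ConcreteCategory.bijective_of_isIso (inv (cycMap K U (m + 1)))).2
    have hex : (ShortComplex.mk ((secCx U K).toCycles m (m + 1)) ψ w).Exact := by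
      rw [ShortComplex.ab_exact_iff]
      intro z hz
      obtain ⟨b, hb⟩ := exact_left (U := U) (sesH_shortExact K m) (inv (cycMap K U (m + 1)) z) hz
      obtain ⟨x, rfl⟩ := hs1 b
      refine ⟨x, ?_⟩
      have h1 : (ev U).map (K.toCycles m (m + 1)) x = inv (cycMap K U (m + 1)) z := by
        refine Eq.trans ?_ hb
        rw [← fac_imToZ, Functor.map_comp]
        rfl
      change (secCx U K).toCycles m (m + 1) x = z
      refine (ConcreteCategory.congr_hom htc x).trans ?_
      refine (congrArg (cycMap K U (m + 1)) h1).trans ?_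
      exact ConcreteCategory.congr_hom (IsIso.inv_hom_id (cycMap K U (m + 1))) z
    have : Epi ψ := (AddCommGrpCat.epi_iff_surjective _).2 hψ
    exact ⟨((secCx U K).homologyIsCokernel m (m + 1) (by simp)).coconePointUniqueUpToIso hex.gIsCokernel⟩

end GrothLib.AcycCx25
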