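import Groth.Agent.AcycCx25.Basic
import Groth.Agent.Lib.SheafCoh.Derived
import Groth.Agent.Lib.SheafCoh.DerivedComp
import Groth.Agent.Lib.SheafCoh.PushInj
import Groth.Agent.Lib.SheafCoh.Terminal

/-! # Degenerate Leray spectral sequence -/

set_option autoImplicit false
set_option backward.isDefEq.respectTransparency false

universe u

open CategoryTheory CategoryTheory.Limits Opposite TopologicalSpace

namespace GrothLib.AcycCx25

open GrothLib GrothLib.SheafCoh

variable {X Y : TopCat.{u}}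

theorem acy_of_H {F : CohTop.Ab Y} (h : ∀ p, Subsingleton (CohTop.H F (p + 1))) :
    Acy (J := Opens.grothendieckTopology Y) (⊤ : Opens Y) F := fun p =>
  @Equiv.subsingleton _ _
    (HEquivHU (J := Opens.grothendieckTopology Y) F (p + 1) (isTerminalTop (α := Opens Y))).symm.toEquiv (h p)

theorem nonempty_H_addEquiv_of_acyclic_base (f : X ⟶ Y) (F : CohTop.Ab X)
    (h : ∀ p q : ℕ, Subsingleton (CohTop.H ((CohTop.Rpush f q).obj F) (p + 1))) (q : ℕ) :
    Nonempty (CohTop.H F q ≃+ ((CohTop.Rpush f q).obj F).obj.obj (op ⊤)) := by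
  let J := Opens.grothendieckTopology X
  let J' := Opens.grothendieckTopology Y
  let I := injectiveResolution F
  let K : CochainComplex (CohTop.Ab Y) ℕ :=
    ((CohTop.push f).mapHomologicalComplex (ComplexShape.up ℕ)).obj I.cocomplex
  let iH : ∀ n, (CohTop.Rpush f n).obj F ≅ K.homology n := fun n => I.isoRightDerivedObj (CohTop.push f) n
  have hK : ∀ n, Acy (J := J') (⊤ : Opens Y) (K.X n) := fun n p => by
    have : Injective (K.X n) := injective_push f _
    exact subsingleton_HU_of_injective _ p ⊤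
  have hH : ∀ n, Acy (J := J') (⊤ : Opens Y) (K.homology n) := fun n => by
    refine acy_of_ext fun p => ?_
    exact @Equiv.subsingleton _ _
      (extPostcompIso (freeY J' (⊤ : Opens Y)) (iH n) (p + 1)).symm.toEquiv
      ((acy_of_H (fun p => h p n)).ext p)
  obtain ⟨e⟩ := nonempty_homology_iso (U := (⊤ : Opens Y)) K hK hH q
  have : ((evaluation (Opens X)ᵒᵖ AddCommGrpCat.{u}).obj (op ⊤)).PreservesHomology :=
    Functor.preservesHomologyOfExact _
  let Φ : CohTop.Ab X ⥤ AddCommGrpCat.{u} := ev (J := J) (⊤ : Opens X)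
  let e₁ : (CohSite.HU F q (⊤ : Opens X)) ≃+ ↑((secCx (⊤ : Opens Y) K).homology q) :=
    (((evaluation (Opens X)ᵒᵖ AddCommGrpCat.{u}).obj (op ⊤)).mapIso
        (rightDerivedSheafToPresheafIso F q)).symm.addCommGroupIsoToAddEquiv.trans
      ((rightDerivedPostExactIso Φ (sheafToPresheaf J AddCommGrpCat.{u})
          ((evaluation (Opens X)ᵒᵖ AddCommGrpCat.{u}).obj (op ⊤)) (Iso.refl _) F q).symm ≪≫
        I.isoRightDerivedObj Φ q).addCommGroupIsoToAddEquiv
  exact ⟨((HEquivHU (J := J) F q (isTerminalTop (α := Opens X))).trans e₁).trans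
    (e ≪≫ (ev (J := J') (⊤ : Opens Y)).mapIso (iH q).symm).addCommGroupIsoToAddEquiv⟩

end GrothLib.AcycCx25
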